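import Mathlib
import Cfsg.Agent.Core.Basics

/-!
# Class sizes: elementary lemmas
-/

set_option autoImplicit false
set_option linter.unusedSectionVars false

namespace Cfsg.Agent.SquarefreeClass

open Subgroup
open scoped commutatorElement

universe u

variable {G : Type u} [Group G]

/-- the class size -/
noncomputable abbrev idx (x : G) : ℕ := (centralizer ({x} : Set G)).index

/-- all class sizes squarefree -/
def HS (G : Type u) [Group G] : Prop := ∀ x : G, Squarefree (idx x)

/-- the hypothesis used for the normal `p`-complement -/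
def Phi (p : ℕ) (G : Type u) [Group G] : Prop :=
  (∀ x : G, ¬ p ^ 2 ∣ idx x) ∧ ∀ x : G, ¬ p ∣ orderOf x → Squarefree (idx x)

/-- a normal subgroup of order prime to `p` with index a power of `p` -/
def Comp (p : ℕ) (G : Type u) [Group G] : Prop :=
  ∃ K : Subgroup G, K.Normal ∧ ¬ p ∣ Nat.card K ∧ ∃ k : ℕ, K.index = p ^ k

theorem mem_cs {x y : G} : y ∈ centralizer ({x} : Set G) ↔ y * x = x * y :=
  mem_centralizer_singleton_iff

theorem card_mul_rel {A B : Subgroup G} (h : A ≤ B) : Nat.card A * A.relIndex B = Nat.card B := by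
  have h1 := relIndex_mul_relIndex (⊥ : Subgroup G) A B bot_le h
  rwa [relIndex_bot_left, relIndex_bot_left] at h1

theorem idx_map_dvd {G' : Type*} [Group G'] {f : G →* G'} (hf : Function.Surjective f) (x : G) :
    idx (f x) ∣ idx x := by
  refine dvd_trans (index_dvd_of_le ?_) (index_map_dvd (centralizer ({x} : Set G)) hf)
  rintro _ ⟨y, hy, rfl⟩
  rw [mem_cs, ← map_mul, ← map_mul, mem_cs.mp hy]

theorem idx_congr_dvd {G' : Type*} [Group G'] (e : G ≃* G') (x : G) : idx (e x) ∣ idx x :=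
  idx_map_dvd (f := e.toMonoidHom) e.surjective x

/-- the class size inside a normal subgroup divides the class size -/
theorem relIndex_dvd_idx [Finite G] (N : Subgroup G) [N.Normal] (x : G) :
    (centralizer ({x} : Set G)).relIndex N ∣ idx x := by
  set C := centralizer ({x} : Set G)
  have h1 := relIndex_mul_index (inf_le_right : C ⊓ N ≤ N)
  have h2 := relIndex_mul_index (inf_le_left : C ⊓ N ≤ C)
  rw [inf_relIndex_right] at h1
  rw [inf_relIndex_left] at h2
  have h3 : N.relIndex C ∣ N.index := relIndex_dvd_index_of_normal N C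
  have hN : 0 < N.index := Nat.pos_of_ne_zero index_ne_zero_of_finite
  refine Nat.dvd_of_mul_dvd_mul_right hN ?_
  rw [h1, ← h2, mul_comm]
  exact Nat.mul_dvd_mul_left _ h3

theorem idx_subtype (N : Subgroup G) (x : N) :
    idx x = (centralizer ({(x : G)} : Set G)).relIndex N := by
  suffices h : centralizer ({x} : Set N) = (centralizer ({(x : G)} : Set G)).subgroupOf N by
    show (centralizer ({x} : Set N)).index = _
    rw [h]
    rfl
  ext y
  rw [mem_subgroupOf, mem_cs, mem_cs, Subtype.ext_iff, Subgroup.coe_mul, Subgroup.coe_mul]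

theorem idx_subtype_dvd [Finite G] (N : Subgroup G) [N.Normal] (x : N) : idx x ∣ idx (x : G) :=
  idx_subtype N x ▸ relIndex_dvd_idx N x

theorem HS.subgroup [Finite G] (h : HS G) (N : Subgroup G) [N.Normal] : HS N :=
  fun x => (h (x : G)).squarefree_of_dvd (idx_subtype_dvd N x)

theorem HS.map {G' : Type*} [Group G'] {f : G →* G'} (hf : Function.Surjective f) (h : HS G) :
    ∀ y : G', Squarefree (idx y) := fun y => by
  obtain ⟨x, rfl⟩ := hf y
  exact (h x).squarefree_of_dvd (idx_map_dvd hf x)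

theorem HS.phi [Finite G] (h : HS G) {p : ℕ} (hp : p.Prime) : Phi p G :=
  ⟨fun x hx => hp.ne_one (Nat.isUnit_iff.mp ((h x) p (by rwa [← pow_two]))),
    fun x _ => h x⟩

theorem Phi.subgroup [Finite G] {p : ℕ} (h : Phi p G) (N : Subgroup G) [N.Normal] : Phi p N :=
  ⟨fun x hx => h.1 (x : G) (hx.trans (idx_subtype_dvd N x)),
    fun x hx => (h.2 (x : G) (by rwa [Subgroup.orderOf_coe])).squarefree_of_dvd (idx_subtype_dvd N x)⟩

/-- elements of order prime to `p` lift -/
theorem exists_lift_coprime [Finite G] {G' : Type*} [Group G'] {f : G →* G'}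
    (hf : Function.Surjective f) {p : ℕ} (hp : p.Prime) {y : G'} (hy : ¬ p ∣ orderOf y) :
    ∃ x : G, f x = y ∧ ¬ p ∣ orderOf x := by
  obtain ⟨x, rfl⟩ := hf y
  obtain ⟨a, m, hm, he⟩ := Nat.exists_eq_pow_mul_and_not_dvd (orderOf_pos x).ne' p hp.ne_one
  have hc : (p ^ a).Coprime (orderOf (f x)) := Nat.Coprime.pow_left _ ((hp.coprime_iff_not_dvd).mpr hy)
  obtain ⟨e, he1, he2⟩ := Nat.chineseRemainder hc 0 1
  refine ⟨x ^ e, ?_, ?_⟩
  · rw [map_pow]
    exact (pow_eq_pow_iff_modEq.mpr he2).trans (pow_one _)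
  · intro hd
    have h1 : (x ^ e) ^ m = 1 := by
      rw [← pow_mul, ← orderOf_dvd_iff_pow_eq_one, he]
      exact Nat.mul_dvd_mul_right (Nat.modEq_zero_iff_dvd.mp he1) m
    exact hm (hd.trans (orderOf_dvd_of_pow_eq_one h1))

theorem Phi.map [Finite G] {p : ℕ} (hp : p.Prime) {G' : Type u} [Group G'] {f : G →* G'}
    (hf : Function.Surjective f) (h : Phi p G) : Phi p G' := by
  refine ⟨fun y hy => ?_, fun y hy => ?_⟩
  · obtain ⟨x, rfl⟩ := hf y
    exact h.1 x (hy.trans (idx_map_dvd hf x))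
  · obtain ⟨x, rfl, hx⟩ := exists_lift_coprime hf hp hy
    exact (h.2 x hx).squarefree_of_dvd (idx_map_dvd hf x)

/-- squarefree prime power -/
theorem dvd_prime_of_dvd_pow {n q k : ℕ} (hq : q.Prime) (h : n ∣ q ^ k) (hs : Squarefree n) : n ∣ q := by
  obtain ⟨i, -, rfl⟩ := (Nat.dvd_prime_pow hq).mp h
  rcases i with _ | _ | i
  · simp
  · simp
  · exact absurd (Nat.isUnit_iff.mp (hs q ⟨q ^ i, by ring⟩)) hq.ne_one

theorem rel_dvd_prime [Finite G] {q : ℕ} [hq : Fact q.Prime] (N : Subgroup G) [N.Normal]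
    (hN : IsPGroup q N) {x : G} (hs : Squarefree (idx x)) :
    (centralizer ({x} : Set G)).relIndex N ∣ q := by
  obtain ⟨k, hk⟩ := IsPGroup.iff_card.mp hN
  refine dvd_prime_of_dvd_pow hq.out (k := k) ?_ (hs.squarefree_of_dvd (relIndex_dvd_idx N x))
  rw [← hk]
  exact index_dvd_card _

theorem eq_of_dvd_prime [Finite G] {q : ℕ} (hq : q.Prime) {A B : Subgroup G}
    (hA : Nat.card A ∣ q) (hB : Nat.card B ∣ q) {x : G} (hxA : x ∈ A) (hxB : x ∈ B) (hx : x ≠ 1) :
    A = B := by
  have key : ∀ A : Subgroup G, Nat.card A ∣ q → x ∈ A → zpowers x = A := by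
    intro A hA hxA
    refine eq_of_le_of_card_ge (zpowers_le.mpr hxA) ?_
    have h1 : orderOf x ∣ q := (A.orderOf_dvd_natCard hxA).trans hA
    have h2 : orderOf x = q := by
      rcases (Nat.dvd_prime hq).mp h1 with h | h
      · exact absurd (orderOf_eq_one_iff.mp h) hx
      · exact h
    rw [Nat.card_zpowers, h2]
    exact Nat.le_of_dvd hq.pos hA
  rw [← key A hA hxA, key B hB hxB]

/-- If `h` moves `u` by an element it fixes then that element has order dividing that of `h`. -/
theorem moved_pow_eq_one {h u c : G} (hu : h * u * h⁻¹ = c * u) (hc : h * c = c * h) :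
    c ^ orderOf h = 1 := by
  have key : ∀ j : ℕ, h ^ j * u * (h ^ j)⁻¹ = c ^ j * u := by
    intro j
    induction j with
    | zero => simp
    | succ j ih =>
      have hcc : Commute h (c ^ j) := (show Commute h c from hc).pow_right j
      calc h ^ (j + 1) * u * (h ^ (j + 1))⁻¹ = h * (h ^ j * u * (h ^ j)⁻¹) * h⁻¹ := by
            rw [pow_succ']; group
        _ = (h * c ^ j) * u * h⁻¹ := by rw [ih]; group
        _ = c ^ j * (h * u * h⁻¹) := by rw [hcc.eq]; group
        _ = c ^ (j + 1) * u := by rw [hu, pow_succ]; group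
  have := key (orderOf h)
  rw [pow_orderOf_eq_one, one_mul, inv_one, mul_one] at this
  exact right_eq_mul.mp this |>.trans rfl

/-- Knoche: a `p`-group with all class sizes dividing `p` has derived subgroup of order dividing `p`
lying in the centre. -/
theorem knoche [Finite G] {p : ℕ} [hp : Fact p.Prime] (hP : IsPGroup p G) (h : ∀ x : G, idx x ∣ p) :
    commutator G ≤ center G ∧ Nat.card (commutator G) ∣ p := by
  classical
  have hcen : commutator G ≤ center G := by
    intro d hd
    refine mem_center_iff.mpr fun x => ?_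
    refine (mem_cs.mp (?_ : d ∈ centralizer ({x} : Set G))).symm
    rcases (Nat.dvd_prime hp.out).mp (h x) with h1 | h1
    · rw [idx, index_eq_one] at h1
      rw [h1]; trivial
    · have hdiv : 1 < Nat.card G := by
        have : p ∣ Nat.card G := h1 ▸ index_dvd_card _
        exact hp.out.one_lt.trans_le (Nat.le_of_dvd Nat.card_pos this)
      obtain ⟨k, hk⟩ := IsPGroup.iff_card.mp hP
      have : (centralizer ({x} : Set G)).Normal := normal_of_index_eq_minFac_card (by
        rw [show (centralizer ({x} : Set G)).index = p from h1, hk,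
          Nat.Prime.pow_minFac hp.out (fun e => by rw [hk, e] at hdiv; simp at hdiv)])
      have hc : IsMulCommutative (G ⧸ centralizer ({x} : Set G)) := by
        have : IsCyclic (G ⧸ centralizer ({x} : Set G)) :=
          isCyclic_of_prime_card (p := p) (by rw [← index_eq_card]; exact h1)
        exact IsCyclic.isMulCommutative
      exact (Normal.quotient_commutative_iff_commutator_le.mp hc) hd
  refine ⟨hcen, ?_⟩
  have hcom : ∀ x y : G, ⁅x, y⁆ ∈ center G := fun x y =>
    hcen (commutator_def G ▸ commutator_mem_commutator (mem_top x) (mem_top y))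
  let br : G → (G →* G) := fun x => MonoidHom.mk' (fun y => ⁅x, y⁆) fun a b => by
    have h1 := (mem_center_iff.mp (hcom x b) a)
    rw [commutatorElement_def, commutatorElement_def, commutatorElement_def] at *
    calc x * (a * b) * x⁻¹ * (a * b)⁻¹ = (x * a * x⁻¹) * ((x * b * x⁻¹ * b⁻¹) * a⁻¹) := by group
      _ = (x * a * x⁻¹) * (a⁻¹ * (a * (x * b * x⁻¹ * b⁻¹)) * a⁻¹) := by group
      _ = (x * a * x⁻¹) * (a⁻¹ * ((x * b * x⁻¹ * b⁻¹) * a) * a⁻¹) := by rw [h1]
      _ = x * a * x⁻¹ * a⁻¹ * (x * b * x⁻¹ * b⁻¹) := by group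
  have hker : ∀ x y : G, y ∈ (br x).ker ↔ y ∈ centralizer ({x} : Set G) := by
    intro x y
    rw [MonoidHom.mem_ker, mem_cs]
    change ⁅x, y⁆ = 1 ↔ _
    rw [commutatorElement_eq_one_iff_mul_comm]
    exact eq_comm
  have hMc : ∀ x, Nat.card (br x).range ∣ p := by
    intro x
    rw [← index_ker, show (br x).ker = centralizer ({x} : Set G) from Subgroup.ext (hker x)]
    exact h x
  by_cases hab : ∀ x y : G, ⁅x, y⁆ = 1
  · have : commutator G = ⊥ := by
      rw [commutator_def, eq_bot_iff]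
      exact commutator_le.mpr fun x _ y _ => mem_bot.mpr (hab x y)
    rw [this, card_bot]
    exact one_dvd _
  push Not at hab
  obtain ⟨x₀, y₀, hxy⟩ := hab
  suffices commutator G ≤ (br x₀).range from (card_dvd_of_le this).trans (hMc x₀)
  rw [commutator_def]
  refine commutator_le.mpr fun x _ y _ => ?_
  by_cases h1 : ⁅x, y⁆ = 1
  · rw [h1]; exact one_mem _
  -- a common element outside two centralisers
  obtain ⟨z, hz1, hz2⟩ : ∃ z : G, ⁅x, z⁆ ≠ 1 ∧ ⁅x₀, z⁆ ≠ 1 := by
    by_contra hcon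
    push Not at hcon
    have hy0 : ⁅x, y₀⁆ = 1 := by
      by_contra e; exact hxy (hcon y₀ e)
    have hy : ⁅x₀, y⁆ = 1 := hcon y h1
    have h2 : ⁅x, y * y₀⁆ ≠ 1 := by
      change br x (y * y₀) ≠ 1
      rw [map_mul]
      change ⁅x, y⁆ * ⁅x, y₀⁆ ≠ 1
      rwa [hy0, mul_one]
    have h3 := hcon _ h2
    change br x₀ (y * y₀) = 1 at h3
    rw [map_mul] at h3
    change ⁅x₀, y⁆ * ⁅x₀, y₀⁆ = 1 at h3
    rw [hy, one_mul] at h3
    exact hxy h3
  have e1 : (br x).range = (br z).range := by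
    refine eq_of_dvd_prime hp.out (hMc x) (hMc z) ⟨z, rfl⟩ ?_ hz1
    exact ⟨x⁻¹, by
      change ⁅z, x⁻¹⁆ = ⁅x, z⁆
      have := mem_center_iff.mp (hcom x z) x
      rw [commutatorElement_def] at this
      rw [commutatorElement_def, commutatorElement_def]
      calc z * x⁻¹ * z⁻¹ * x⁻¹⁻¹ = x⁻¹ * (x * z * x⁻¹ * z⁻¹ * x) := by group
        _ = x⁻¹ * (x * (x * z * x⁻¹ * z⁻¹)) := by rw [this]
        _ = x * z * x⁻¹ * z⁻¹ := by group⟩
  have e2 : (br x₀).range = (br z).range := by
    refine eq_of_dvd_prime hp.out (hMc x₀) (hMc z) ⟨z, rfl⟩ ?_ hz2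
    exact ⟨x₀⁻¹, by
      change ⁅z, x₀⁻¹⁆ = ⁅x₀, z⁆
      have := mem_center_iff.mp (hcom x₀ z) x₀
      rw [commutatorElement_def] at this
      rw [commutatorElement_def, commutatorElement_def]
      calc z * x₀⁻¹ * z⁻¹ * x₀⁻¹⁻¹ = x₀⁻¹ * (x₀ * z * x₀⁻¹ * z⁻¹ * x₀) := by group
        _ = x₀⁻¹ * (x₀ * (x₀ * z * x₀⁻¹ * z⁻¹)) := by rw [this]
        _ = x₀ * z * x₀⁻¹ * z⁻¹ := by group⟩
  rw [e2, ← e1]
  exact ⟨y, rfl⟩

end Cfsg.Agent.SquarefreeClass
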