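import Cfsg.Agent.SquarefreeClass.Basic
import Cfsg.Agent.Core.Supersolvable
import Cfsg.Agent.Core.Fitting

/-!
# Solvable groups with squarefree class sizes
-/

set_option autoImplicit false
set_option linter.unusedSectionVars false
set_option linter.unusedVariables false

namespace Cfsg.Agent.SquarefreeClass

open Subgroup
open scoped commutatorElement

universe u

section moved
variable {G : Type u} [Group G] [Finite G] (N : Subgroup G) [hN : N.Normal] [IsMulCommutative N]

/-- commutation with `g` on an abelian normal subgroup -/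
noncomputable def mv (g : G) : N →* G :=
  MonoidHom.mk' (fun n => ⁅g, (n : G)⁆) fun a b => by
    have hb : g * b * g⁻¹ * (b : G)⁻¹ ∈ N := N.mul_mem (hN.conj_mem _ b.2 g) (N.inv_mem b.2)
    have h1 : (a : G) * (g * b * g⁻¹ * (b : G)⁻¹) = (g * b * g⁻¹ * (b : G)⁻¹) * a :=
      setLike_mul_comm a.2 hb
    simp only [commutatorElement_def, Subgroup.coe_mul]
    calc g * ((a : G) * b) * g⁻¹ * ((a : G) * b)⁻¹
        = (g * a * g⁻¹) * ((g * b * g⁻¹ * (b : G)⁻¹) * (a : G)⁻¹) := by group
      _ = (g * a * g⁻¹) * ((a : G)⁻¹ * ((a : G) * (g * b * g⁻¹ * (b : G)⁻¹)) * (a : G)⁻¹) := by group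
      _ = (g * a * g⁻¹) * ((a : G)⁻¹ * ((g * b * g⁻¹ * (b : G)⁻¹) * a) * (a : G)⁻¹) := by rw [h1]
      _ = g * a * g⁻¹ * (a : G)⁻¹ * (g * b * g⁻¹ * (b : G)⁻¹) := by group

/-- the subgroup moved by `g` -/
noncomputable def Mv (g : G) : Subgroup G := (mv N g).range

theorem mv_apply (g : G) (n : N) : mv N g n = ⁅g, (n : G)⁆ := rfl

theorem comm_mem_Mv {g n : G} (hn : n ∈ N) : ⁅g, n⁆ ∈ Mv N g := ⟨⟨n, hn⟩, rfl⟩

theorem Mv_le (g : G) : Mv N g ≤ N := by
  rintro _ ⟨n, rfl⟩
  exact N.mul_mem (hN.conj_mem _ n.2 g) (N.inv_mem n.2)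

theorem mem_fix {g n : G} : n ∈ centralizer ({g} : Set G) ↔ ⁅g, n⁆ = 1 := by
  rw [mem_cs, commutatorElement_eq_one_iff_mul_comm]
  exact eq_comm

theorem card_Mv (g : G) : Nat.card (Mv N g) = (centralizer ({g} : Set G)).relIndex N := by
  have hk : (mv N g).ker = (centralizer ({g} : Set G)).subgroupOf N := by
    ext n
    rw [MonoidHom.mem_ker, mv_apply, mem_subgroupOf, mem_fix]
  rw [Mv, ← index_ker, hk]
  rfl

theorem conj_mem_Mv (g k : G) {w : G} (hw : w ∈ Mv N g) : k * w * k⁻¹ ∈ Mv N (k * g * k⁻¹) := by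
  obtain ⟨n, rfl⟩ := hw
  refine ⟨⟨k * n * k⁻¹, hN.conj_mem _ n.2 k⟩, ?_⟩
  simp only [mv_apply, commutatorElement_def]
  group

variable {q : ℕ} [hq : Fact q.Prime] (hd : ∀ g : G, Nat.card (Mv N g) ∣ q)
include hd

/-- two elements have the same fixed subgroup or the same moved subgroup -/
theorem same_or_same {g h : G} (hg : Mv N g ≠ ⊥) (hh : Mv N h ≠ ⊥) :
    centralizer ({g} : Set G) ⊓ N = centralizer ({h} : Set G) ⊓ N ∨ Mv N g = Mv N h := by
  by_contra hcon
  push Not at hcon
  obtain ⟨hF, hM⟩ := hcon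
  have hlt : ∀ x y : G, Mv N x ≠ ⊥ → Mv N y ≠ ⊥ →
      centralizer ({x} : Set G) ⊓ N ≤ centralizer ({y} : Set G) ⊓ N →
      centralizer ({x} : Set G) ⊓ N = centralizer ({y} : Set G) ⊓ N := by
    intro x y hx hy hle
    refine eq_of_le_of_card_ge hle ?_
    have key : ∀ z : G, Mv N z ≠ ⊥ →
        Nat.card (centralizer ({z} : Set G) ⊓ N : Subgroup G) * q = Nat.card N := by
      intro z hz
      have h1 := card_mul_rel (inf_le_right : centralizer ({z} : Set G) ⊓ N ≤ N)
      rw [inf_relIndex_right, ← card_Mv] at h1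
      rcases (Nat.dvd_prime hq.out).mp (hd z) with e | e
      · exact absurd (card_eq_one.mp e) hz
      · rwa [e] at h1
    exact Nat.le_of_mul_le_mul_right ((key y hy).trans (key x hx).symm).le hq.out.pos
  obtain ⟨n, hn, hnh⟩ := SetLike.not_le_iff_exists.mp (fun h' => hF (hlt g h hg hh h'))
  obtain ⟨m, hm, hmg⟩ := SetLike.not_le_iff_exists.mp (fun h' => hF (hlt h g hh hg h').symm)
  have e1 : ⁅g * h, n⁆ = g * ⁅h, n⁆ * g⁻¹ := by
    have h1 : g * n = n * g := mem_cs.mp hn.1 |>.symm
    simp only [commutatorElement_def]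
    calc g * h * n * (g * h)⁻¹ * n⁻¹ = g * (h * n * h⁻¹ * n⁻¹) * ((n * g⁻¹) * n⁻¹) := by group
      _ = g * (h * n * h⁻¹ * n⁻¹) * g⁻¹ := by
        rw [(show Commute g n from h1).inv_left.symm.eq, mul_inv_cancel_right]
  have e2 : ⁅g * h, m⁆ = ⁅g, m⁆ := by
    have h1 : h * m = m * h := mem_cs.mp hm.1 |>.symm
    simp only [commutatorElement_def]
    calc g * h * m * (g * h)⁻¹ * m⁻¹ = g * ((h * m) * h⁻¹) * g⁻¹ * m⁻¹ := by group
      _ = g * m * g⁻¹ * m⁻¹ := by rw [h1, mul_inv_cancel_right]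
  have hn1 : ⁅h, n⁆ ≠ 1 := fun e => hnh ⟨mem_fix.mpr e, hn.2⟩
  have hm1 : ⁅g, m⁆ ≠ 1 := fun e => hmg ⟨mem_fix.mpr e, hm.2⟩
  have e3 : Mv N (g * h) = Mv N g :=
    eq_of_dvd_prime hq.out (hd _) (hd _) (e2 ▸ comm_mem_Mv N hm.2) (comm_mem_Mv N hm.2) hm1
  have h4 : ⁅h, n⁆ ∈ Mv N g := by
    have h5 := e3 ▸ e1 ▸ comm_mem_Mv N (g := g * h) hn.2
    have h6 := conj_mem_Mv N g g⁻¹ h5
    rw [show g⁻¹ * g * g⁻¹⁻¹ = g by group,
      show g⁻¹ * (g * ⁅h, n⁆ * g⁻¹) * g⁻¹⁻¹ = ⁅h, n⁆ by group] at h6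
    exact h6
  exact hM (eq_of_dvd_prime hq.out (hd _) (hd _) h4 (comm_mem_Mv N hn.2) hn1)

/-- either all moving elements fix the same subgroup, or all move the same one -/
theorem all_same :
    (∀ g h : G, Mv N g ≠ ⊥ → Mv N h ≠ ⊥ →
      centralizer ({g} : Set G) ⊓ N = centralizer ({h} : Set G) ⊓ N) ∨
    (∀ g h : G, Mv N g ≠ ⊥ → Mv N h ≠ ⊥ → Mv N g = Mv N h) := by
  by_contra hcon
  push Not at hcon
  obtain ⟨⟨g, h, hg, hh, hF⟩, ⟨g', h', hg', hh', hM⟩⟩ := hcon
  have e1 := (same_or_same N hd hg hh).resolve_left hF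
  have key : ∀ k : G, Mv N k ≠ ⊥ → Mv N k = Mv N g := by
    intro k hk
    rcases same_or_same N hd hk hg with e | e
    · rcases same_or_same N hd hk hh with e' | e'
      · exact absurd (e.symm.trans e') hF
      · exact e'.trans e1.symm
    · exact e
  exact hM ((key g' hg').trans (key h' hh').symm)

end moved

variable {G : Type u} [Group G] [Finite G]

theorem isSupersolvable_of_hs (hs : Group.IsSolvable G) (h : HS G) : IsSupersolvable G := by
  suffices H : ∀ (n : ℕ) (G : Type u) [Group G] [Finite G], Nat.card G = n → Group.IsSolvable G →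
      HS G → IsSupersolvable G from H _ G rfl hs h
  clear hs h
  intro n
  induction n using Nat.strong_induction_on with
  | _ n ih =>
    intro G _ _ hn hs h
    rcases subsingleton_or_nontrivial G with hss | hnt
    · exact Core.isSupersolvable_of_subsingleton
    obtain ⟨N, hN⟩ := Core.exists_isMinNormal (G := G)
    have := hN.normal
    have := hN.isMulCommutative
    obtain ⟨q, hq, he⟩ := hN.exists_prime_pow_eq_one
    have : Fact q.Prime := ⟨hq⟩
    have hNp := Core.isPGroup_of_forall_pow_eq_one he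
    have hd : ∀ g : G, Nat.card (Mv N g) ∣ q := fun g =>
      card_Mv N g ▸ rel_dvd_prime N hNp (h g)
    have hcyc : IsCyclic N := by
      obtain ⟨x, hx, hx1⟩ := (bot_or_exists_ne_one N).resolve_left hN.ne_bot
      by_cases hmov : ∀ g, Mv N g = ⊥
      · -- `N` is central
        have hxn : (zpowers x).Normal := by
          refine ⟨fun w hw g => ?_⟩
          have h1 : ⁅g, w⁆ ∈ Mv N g := comm_mem_Mv N (zpowers_le.mpr hx hw)
          rw [hmov g, mem_bot, commutatorElement_eq_one_iff_mul_comm] at h1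
          rw [h1, mul_inv_cancel_right]
          exact hw
        rw [← (hN.eq_of_le _ hxn (zpowers_le.mpr hx)).resolve_left (zpowers_ne_bot.mpr hx1)]
        infer_instance
      push Not at hmov
      obtain ⟨g₀, hg₀⟩ := hmov
      rcases all_same N hd with hF | hM
      · set F := centralizer ({g₀} : Set G) ⊓ N
        have hFn : F.Normal := by
          refine ⟨fun w hw k => ?_⟩
          have hk : Mv N (k⁻¹ * g₀ * k) ≠ ⊥ := by
            intro e
            refine hg₀ ((eq_bot_iff_forall _).mpr fun v hv => ?_)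
            have h1 := conj_mem_Mv N g₀ k⁻¹ hv
            rw [inv_inv, e, mem_bot] at h1
            exact mem_bot.mpr (conj_eq_one_iff.mp (show k⁻¹ * v * k⁻¹⁻¹ = 1 by simpa using h1))
          have h2 : w ∈ centralizer ({k⁻¹ * g₀ * k} : Set G) ⊓ N := by
            rw [hF _ g₀ hk hg₀]; exact hw
          refine ⟨mem_cs.mpr ?_, hN.normal.conj_mem _ hw.2 k⟩
          have h3 := mem_cs.mp h2.1
          calc k * w * k⁻¹ * g₀ = k * (w * (k⁻¹ * g₀ * k)) * k⁻¹ := by group
            _ = k * ((k⁻¹ * g₀ * k) * w) * k⁻¹ := by rw [h3]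
            _ = g₀ * (k * w * k⁻¹) := by group
        rcases hN.eq_of_le F hFn inf_le_right with e | e
        · have h1 := card_mul_rel (inf_le_right : F ≤ N)
          change Nat.card F * F.relIndex N = _ at h1
          rw [e, card_bot, one_mul] at h1
          refine isCyclic_of_card_dvd_prime (p := q) ?_
          rw [← h1, ← e]
          change (centralizer ({g₀} : Set G) ⊓ N).relIndex N ∣ q
          rw [inf_relIndex_right, ← card_Mv N]
          exact hd g₀
        · exfalso
          apply hg₀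
          rw [← card_eq_one, card_Mv N, relIndex_eq_one]
          exact e ▸ inf_le_left
      · have hMn : (Mv N g₀).Normal := by
          refine ⟨fun w hw k => ?_⟩
          have h1 := conj_mem_Mv N g₀ k hw
          by_cases e : Mv N (k * g₀ * k⁻¹) = ⊥
          · rw [e, mem_bot] at h1
            rw [h1]
            exact one_mem _
          · rwa [hM _ g₀ e hg₀] at h1
        have e := (hN.eq_of_le _ hMn (Mv_le N g₀)).resolve_left hg₀
        refine isCyclic_of_card_dvd_prime (p := q) ?_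
        rw [← e]
        exact hd g₀
    exact Core.isSupersolvable_of_cyclic_normal N
      (ih _ (hn ▸ Core.card_quotient_lt hN.ne_bot) _ rfl inferInstance
        (HS.map (QuotientGroup.mk'_surjective N) h))

/-- the core of the estimate for the derived subgroup -/
theorem card_commutator_dvd_of_normal_sylow {p : ℕ} [hp : Fact p.Prime] (h : HS G) (P : Sylow p G)
    (hPn : (P : Subgroup G).Normal) (hG' : _root_.commutator G ≤ (P : Subgroup G))
    (hC : centralizer ((P : Subgroup G) : Set G) ≤ P) : Nat.card (_root_.commutator G) ∣ p := by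
  classical
  set Q : Subgroup G := (P : Subgroup G) with hQ
  have hQp : IsPGroup p Q := P.2
  have hrel : ∀ g : G, (centralizer ({g} : Set G)).relIndex Q ∣ p := fun g =>
    rel_dvd_prime Q hQp (h g)
  obtain ⟨hcen, hder⟩ := knoche hQp fun x => idx_subtype Q x ▸ hrel x
  -- a complement
  obtain ⟨H, hH⟩ := exists_right_complement'_of_coprime (N := Q) P.card_coprime_index
  have hHc : ∀ a ∈ H, ∀ b ∈ H, a * b = b * a := by
    intro a ha b hb
    have h1 : ⁅a, b⁆ ∈ Q ⊓ H :=
      ⟨hG' (_root_.commutator_def G ▸ commutator_mem_commutator (mem_top a) (mem_top b)),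
        H.mul_mem (H.mul_mem (H.mul_mem ha hb) (H.inv_mem ha)) (H.inv_mem hb)⟩
    rw [hH.disjoint.eq_bot, mem_bot] at h1
    exact commutatorElement_eq_one_iff_mul_comm.mp h1
  have hdec : ∀ g : G, ∃ u ∈ Q, ∃ a ∈ H, g = u * a := by
    intro g
    obtain ⟨⟨⟨u, hu⟩, ⟨a, ha⟩⟩, e⟩ := hH.surjective g
    exact ⟨u, hu, a, ha, e.symm⟩
  have hcop : ∀ a ∈ H, (orderOf a).Coprime p := by
    intro a ha
    refine Nat.Coprime.coprime_dvd_left (H.orderOf_dvd_natCard ha) ?_
    rw [Coprime.card_eq_index_of_isComplement' hH]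
    exact (hp.out.coprime_iff_not_dvd.mpr P.not_dvd_index).symm
  have hfixp : ∀ a ∈ H, ∀ c ∈ Q, c ^ orderOf a = 1 → c = 1 := by
    intro a ha c hc he
    obtain ⟨k, hk⟩ := IsPGroup.iff_orderOf.mp hQp ⟨c, hc⟩
    rw [← orderOf_eq_one_iff]
    refine Nat.eq_one_of_dvd_coprimes (((hcop a ha).pow_right k)) (orderOf_dvd_of_pow_eq_one he) ?_
    rw [← hk, ← Subgroup.orderOf_coe]
  by_cases hHb : ∀ a ∈ H, a = 1
  · have htop : Q = ⊤ := by
      refine eq_top_iff.mpr fun g _ => ?_
      obtain ⟨u, hu, a, ha, rfl⟩ := hdec g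
      rwa [hHb a ha, mul_one]
    refine dvd_trans (card_dvd_of_le (?_ : _root_.commutator G ≤ (_root_.commutator Q).map Q.subtype))
      ((card_map_of_injective Q.subtype_injective).symm ▸ hder)
    rw [_root_.commutator_def, _root_.commutator_def, map_commutator, ← MonoidHom.range_eq_map, range_subtype]
    exact commutator_mono htop.ge htop.ge
  push Not at hHb
  obtain ⟨h₁, hh₁, hh₁1⟩ := hHb
  set C := centralizer ({h₁} : Set G) ⊓ Q with hCdef
  have hCle : C ≤ Q := inf_le_right
  obtain ⟨u, hu, huC⟩ : ∃ u ∈ Q, u ∉ C := by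
    by_contra hcon
    push Not at hcon
    have h1 : h₁ ∈ centralizer (Q : Set G) := mem_centralizer_iff.mpr fun v hv =>
      mem_cs.mp (hcon v hv).1
    have h2 : h₁ ∈ Q ⊓ H := ⟨hC h1, hh₁⟩
    rw [hH.disjoint.eq_bot, mem_bot] at h2
    exact hh₁1 h2
  have hCp : C.relIndex Q = p := by
    have h1 : C.relIndex Q ∣ p := by
      rw [hCdef, inf_relIndex_right]; exact hrel h₁
    rcases (Nat.dvd_prime hp.out).mp h1 with e | e
    · exact absurd (relIndex_eq_one.mp e hu) huC
    · exact e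
  have habove : ∀ X : Subgroup G, C ≤ X → X ≤ Q → (∃ x ∈ X, x ∉ C) → X = Q := by
    intro X h1 h2 ⟨x, hx, hxC⟩
    have h3 := relIndex_mul_relIndex C X Q h1 h2
    rw [hCp] at h3
    have h4 : C.relIndex X ≠ 1 := fun e => hxC (relIndex_eq_one.mp e hx)
    rcases (Nat.dvd_prime hp.out).mp (Dvd.intro_left _ h3 : X.relIndex Q ∣ p) with e | e
    · exact le_antisymm h2 (relIndex_eq_one.mp e)
    · rw [e] at h3
      exact absurd (Nat.eq_of_mul_eq_mul_right hp.out.pos (h3.trans (one_mul p).symm)) h4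
  have hCab : ∀ c ∈ C, ∀ d ∈ C, c * d = d * c := by
    intro c hc d hd
    obtain ⟨k, hk⟩ : ∃ k, orderOf c = p ^ k := by
      obtain ⟨k, hk⟩ := IsPGroup.iff_orderOf.mp hQp ⟨c, hc.2⟩
      exact ⟨k, by rw [← hk, ← Subgroup.orderOf_coe]⟩
    obtain ⟨i, hi1, hi2⟩ := Nat.chineseRemainder (((hcop h₁ hh₁).pow_right k).symm) 1 0
    have hcm : Commute c h₁ := mem_cs.mp hc.1
    have e : (c * h₁) ^ i = c := by
      rw [hcm.mul_pow, show h₁ ^ i = 1 from orderOf_dvd_iff_pow_eq_one.mp (Nat.modEq_zero_iff_dvd.mp hi2),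
        mul_one]
      exact (pow_eq_pow_iff_modEq.mpr (hk ▸ hi1)).trans (pow_one c)
    set g := c * h₁ with hg
    have hle : centralizer ({g} : Set G) ⊓ Q ≤ C ⊓ centralizer ({c} : Set G) := by
      intro y hy
      have h1 : Commute y g := mem_cs.mp hy.1
      have h2 : Commute y c := e ▸ h1.pow_right i
      refine ⟨⟨mem_cs.mpr ?_, hy.2⟩, mem_cs.mpr h2⟩
      have h3 : h₁ = c⁻¹ * g := by rw [hg]; group
      rw [h3]
      exact h2.inv_right.mul_right h1
    have h4 : (C ⊓ centralizer ({c} : Set G)).relIndex Q ∣ p := by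
      refine dvd_trans (relIndex_dvd_of_le_left Q hle) ?_
      rw [inf_relIndex_right]
      exact hrel g
    have h5 : C ⊓ centralizer ({c} : Set G) = C := by
      have h6 := relIndex_mul_relIndex (C ⊓ centralizer ({c} : Set G)) C Q inf_le_left hCle
      rw [hCp] at h6
      rw [← h6] at h4
      exact le_antisymm inf_le_left (relIndex_eq_one.mp (Nat.dvd_one.mp
        (Nat.dvd_of_mul_dvd_mul_right hp.out.pos ((one_mul p).symm ▸ h4))))
    exact (mem_cs.mp (h5.symm ▸ hd : d ∈ C ⊓ centralizer ({c} : Set G)).2).symm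
  set w := ⁅h₁, u⁆ with hw
  have hwQ : w ∈ Q := Q.mul_mem (hPn.conj_mem _ hu h₁) (Q.inv_mem hu)
  have hwu : h₁ * u * h₁⁻¹ = w * u := by rw [hw, commutatorElement_def]; group
  have hw1 : w ≠ 1 := fun e => huC ⟨mem_fix.mpr e, hu⟩
  have hwC : w ∉ C := fun e =>
    hw1 (hfixp h₁ hh₁ w hwQ (moved_pow_eq_one hwu (mem_cs.mp e.1).symm))
  have hQab : ∀ x ∈ Q, ∀ y ∈ Q, x * y = y * x := by
    have hwc : ∀ c ∈ C, c * w = w * c := by
      intro c hc
      have hz : ∀ y ∈ Q, y * ⁅c, u⁆ = ⁅c, u⁆ * y := by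
        intro y hy
        have h0 : ⁅(⟨c, hc.2⟩ : Q), (⟨u, hu⟩ : Q)⁆ ∈ center Q :=
          hcen (_root_.commutator_def Q ▸ commutator_mem_commutator (mem_top _) (mem_top _))
        exact congrArg Subtype.val (mem_center_iff.mp h0 ⟨y, hy⟩)
      have hcu : ⁅c, u⁆ ∈ C := by
        -- the derived subgroup of `Q` lies in every maximal subgroup
        have hn : (C.subgroupOf Q).Normal := by
          obtain ⟨k, hk⟩ := IsPGroup.iff_card.mp hQp
          refine normal_of_index_eq_minFac_card (hCp.trans ?_)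
          have hk0 : k ≠ 0 := fun e => by
            rw [e, pow_zero] at hk
            exact hw1 (by
              have := Q.eq_bot_of_card_eq hk
              rw [this, mem_bot] at hwQ
              exact hwQ)
          rw [hk, Nat.Prime.pow_minFac hp.out hk0]
        have hcy : IsCyclic (Q ⧸ C.subgroupOf Q) :=
          isCyclic_of_prime_card (p := p) (by rw [← index_eq_card]; exact hCp)
        have := Normal.quotient_commutative_iff_commutator_le.mp
          (IsCyclic.isMulCommutative (α := Q ⧸ C.subgroupOf Q))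
          (_root_.commutator_def Q ▸ commutator_mem_commutator (mem_top (⟨c, hc.2⟩ : Q)) (mem_top (⟨u, hu⟩ : Q)))
        exact this
      have e1 : h₁ * c * h₁⁻¹ = c := by rw [← mem_cs.mp hc.1, mul_inv_cancel_right]
      have e2 : h₁ * ⁅c, u⁆ * h₁⁻¹ = ⁅c, u⁆ := by rw [← mem_cs.mp hcu.1, mul_inv_cancel_right]
      have e3 : ⁅c, w * u⁆ = ⁅c, u⁆ := by
        conv_rhs => rw [← e2]
        rw [← hwu]
        conv_lhs => rw [← e1]
        simp only [commutatorElement_def]
        group
      have e4 : ⁅c, w * u⁆ = ⁅c, w⁆ * ⁅c, u⁆ := by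
        calc ⁅c, w * u⁆ = ⁅c, w⁆ * (w * ⁅c, u⁆ * w⁻¹) := by
              simp only [commutatorElement_def]; group
          _ = ⁅c, w⁆ * ⁅c, u⁆ := by rw [hz w hwQ, mul_inv_cancel_right]
      exact commutatorElement_eq_one_iff_mul_comm.mp (mul_eq_right.mp (e4.symm.trans e3))
    have hCcent : ∀ c ∈ C, Q ≤ centralizer ({c} : Set G) := by
      intro c hc
      have := habove (centralizer ({c} : Set G) ⊓ Q)
        (fun d hd => ⟨mem_cs.mpr (hCab d hd c hc), hd.2⟩) inf_le_right
        ⟨w, ⟨mem_cs.mpr (hwc c hc).symm, hwQ⟩, hwC⟩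
      exact this ▸ inf_le_left
    have hucent : Q ≤ centralizer ({u} : Set G) := by
      have := habove (centralizer ({u} : Set G) ⊓ Q)
        (fun d hd => ⟨mem_cs.mpr (mem_cs.mp (hCcent d hd hu)).symm, hd.2⟩) inf_le_right
        ⟨u, ⟨mem_cs.mpr rfl, hu⟩, huC⟩
      exact this ▸ inf_le_left
    intro x hx y hy
    have := habove (centralizer ({x} : Set G) ⊓ Q)
      (fun d hd => ⟨mem_cs.mpr (mem_cs.mp (hCcent d hd hx)).symm, hd.2⟩) inf_le_right
      ⟨u, ⟨mem_cs.mpr (mem_cs.mp (hucent hx)).symm, hu⟩, huC⟩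
    exact (mem_cs.mp ((this.symm ▸ hy : y ∈ centralizer ({x} : Set G) ⊓ Q).1)).symm
  have : IsMulCommutative Q := ⟨⟨fun a b => Subtype.ext (hQab a a.2 b b.2)⟩⟩
  have hd : ∀ g : G, Nat.card (Mv Q g) ∣ p := fun g => card_Mv Q g ▸ hrel g
  have hg₁ : Mv Q h₁ ≠ ⊥ := fun e => hw1 (mem_bot.mp (e ▸ comm_mem_Mv Q hu))
  have hall : ∀ a ∈ H, Mv Q a ≠ ⊥ → Mv Q a = Mv Q h₁ := by
    intro a ha hane
    by_contra hne
    have hF := (same_or_same Q hd hane hg₁).resolve_right hne
    have h1 : a * w * a⁻¹ * w⁻¹ ∈ Mv Q a := comm_mem_Mv Q hwQ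
    have hah : a * h₁ * a⁻¹ = h₁ := by rw [hHc a ha h₁ hh₁, mul_inv_cancel_right]
    have h2 : a * w * a⁻¹ * w⁻¹ ∈ Mv Q h₁ := by
      refine (Mv Q h₁).mul_mem ?_ ((Mv Q h₁).inv_mem (comm_mem_Mv Q hu))
      have := conj_mem_Mv Q h₁ a (comm_mem_Mv Q (g := h₁) hu)
      rwa [hah] at this
    by_cases h3 : a * w * a⁻¹ * w⁻¹ = 1
    · have h4 : w ∈ centralizer ({a} : Set G) ⊓ Q := ⟨mem_fix.mpr h3, hwQ⟩
      rw [hF] at h4
      exact hwC h4
    · exact hne (eq_of_dvd_prime hp.out (hd _) (hd _) h1 h2 h3)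
  set M := Mv Q h₁ with hM
  have hMle : M ≤ Q := Mv_le Q h₁
  have hmv : ∀ a ∈ H, ∀ v ∈ Q, ⁅a, v⁆ ∈ M := by
    intro a ha v hv
    by_cases e : Mv Q a = ⊥
    · have := comm_mem_Mv Q (g := a) hv
      rw [e, mem_bot] at this
      rw [this]
      exact one_mem _
    · exact hall a ha e ▸ comm_mem_Mv Q hv
  have hMn : M.Normal := by
    refine ⟨fun m hm g => ?_⟩
    obtain ⟨v, hv, a, ha, rfl⟩ := hdec g
    have h1 : a * m * a⁻¹ ∈ M := by
      have := conj_mem_Mv Q h₁ a hm
      rwa [hHc a ha h₁ hh₁, mul_inv_cancel_right] at this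
    rwa [show v * a * m * (v * a)⁻¹ = v * (a * m * a⁻¹) * v⁻¹ by group,
      hQab v hv _ (hMle h1), mul_inv_cancel_right]
  refine dvd_trans (card_dvd_of_le (?_ : _root_.commutator G ≤ M)) (hd h₁)
  set f := QuotientGroup.mk' M
  have hfQH : ∀ v ∈ Q, ∀ a ∈ H, f a * f v = f v * f a := by
    intro v hv a ha
    rw [← map_mul, ← map_mul, QuotientGroup.mk'_apply, QuotientGroup.mk'_apply,
      QuotientGroup.eq_iff_div_mem, div_eq_mul_inv,
      show a * v * (v * a)⁻¹ = ⁅a, v⁆ by rw [commutatorElement_def]; group]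
    exact hmv a ha v hv
  rw [_root_.commutator_def]
  refine commutator_le.mpr fun x _ y _ => ?_
  obtain ⟨v, hv, a, ha, rfl⟩ := hdec x
  obtain ⟨v', hv', b, hb, rfl⟩ := hdec y
  rw [← QuotientGroup.eq_one_iff (N := M)]
  change f ⁅v * a, v' * b⁆ = 1
  rw [map_commutatorElement, commutatorElement_eq_one_iff_mul_comm, map_mul, map_mul]
  have c1 : f v * f v' = f v' * f v := by rw [← map_mul, hQab v hv v' hv', map_mul]
  have c2 : f a * f b = f b * f a := by rw [← map_mul, hHc a ha b hb, map_mul]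
  have c3 := hfQH v' hv' a ha
  have c4 := hfQH v hv b hb
  calc f v * f a * (f v' * f b) = f v * (f a * f v') * f b := by simp only [mul_assoc]
    _ = (f v * f v') * (f a * f b) := by rw [c3]; simp only [mul_assoc]
    _ = (f v' * f v) * (f b * f a) := by rw [c1, c2]
    _ = f v' * (f b * f v) * f a := by rw [c4]; simp only [mul_assoc]
    _ = f v' * f b * (f v * f a) := by simp only [mul_assoc]

theorem squarefree_commutator (hs : Group.IsSolvable G) (h : HS G) :
    Squarefree (Nat.card (_root_.commutator G)) := by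
  suffices H : ∀ (n : ℕ) (G : Type u) [Group G] [Finite G], Nat.card G = n → Group.IsSolvable G →
      HS G → ∀ p : ℕ, p.Prime → ¬ p * p ∣ Nat.card (_root_.commutator G) from
    Nat.squarefree_iff_prime_squarefree.mpr (H _ G rfl hs h)
  clear hs h
  intro n
  induction n using Nat.strong_induction_on with
  | _ n ih =>
    intro G _ _ hn hs h p hp hpp
    have : Fact p.Prime := ⟨hp⟩
    by_cases hO : pPrimeCore p G = ⊥
    · have hnil := Core.isNilpotent_commutator_of_isSupersolvable (isSupersolvable_of_hs hs h)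
      have hF : fittingSubgroup G ≤ pCore p G := by
        rw [Core.fittingSubgroup_eq_iSup_pCore]
        refine iSup_le fun r => ?_
        have : Fact (r : ℕ).Prime := ⟨r.2⟩
        by_cases hrp : (r : ℕ) = p
        · rw [hrp]
        · exact (Core.pCore_le_pPrimeCore hrp).trans (hO ▸ bot_le)
      obtain ⟨P⟩ : Nonempty (Sylow p G) := inferInstance
      have hG' : _root_.commutator G ≤ (P : Subgroup G) :=
        (Core.le_fittingSubgroup hnil).trans (hF.trans (Core.pCore_le_sylow P))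
      have hPn : (P : Subgroup G).Normal := Normal.of_commutator_le (h := hG')
      have hC : centralizer ((P : Subgroup G) : Set G) ≤ P := by
        refine le_trans (centralizer_le ?_) ((Core.centralizer_fittingSubgroup_le).trans
          (hF.trans (Core.pCore_le_sylow P)))
        exact hF.trans (Core.pCore_le_sylow P)
      have h1 := hpp.trans (card_commutator_dvd_of_normal_sylow h P hPn hG' hC)
      have := Nat.le_of_dvd hp.pos h1
      have := hp.two_le
      nlinarith
    · set O := pPrimeCore p G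
      have := ih _ (hn ▸ Core.card_quotient_lt hO) _ rfl inferInstance
        (HS.map (QuotientGroup.mk'_surjective O) h) p hp
      refine this ?_
      have hmap : (_root_.commutator G).map (QuotientGroup.mk' O) = _root_.commutator (G ⧸ O) := by
        rw [_root_.commutator_def, _root_.commutator_def, map_commutator,
          map_top_of_surjective _ (QuotientGroup.mk'_surjective O)]
      rw [← hmap]
      have h2 : Nat.card (_root_.commutator G) ∣
          Nat.card ((_root_.commutator G).map (QuotientGroup.mk' O)) * Nat.card O := by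
        set f := (QuotientGroup.mk' O).domRestrict (_root_.commutator G)
        rw [← f.ker.card_mul_index, index_ker, MonoidHom.domRestrict_range, mul_comm]
        refine Nat.mul_dvd_mul_left _ ?_
        refine (dvd_of_eq (card_map_of_injective (_root_.commutator G).subtype_injective).symm).trans
          (card_dvd_of_le ?_)
        rintro _ ⟨x, hx, rfl⟩
        exact (QuotientGroup.eq_one_iff _).mp hx
      refine Nat.Coprime.dvd_of_dvd_mul_right ?_ (hpp.trans h2)
      have h3 := Core.coprime_card_pPrimeCore (p := p) (G := G)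
      exact Nat.Coprime.mul_left h3.symm h3.symm

theorem isCyclic_commutator (hs : Group.IsSolvable G) (h : HS G) : IsCyclic (_root_.commutator G) := by
  have := IsZGroup.of_squarefree (squarefree_commutator hs h)
  have := Core.isNilpotent_commutator_of_isSupersolvable (isSupersolvable_of_hs hs h)
  infer_instance

end Cfsg.Agent.SquarefreeClass
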